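import Cfsg.Agent.Lib.TCX.TD4.C0
import Cfsg.Agent.Lib.TCX.Cert

set_option autoImplicit false
set_option maxRecDepth 100000
set_option Elab.async false

namespace Cfsg.Agent.TCX.TD4

open Cfsg.Agent.CG

/-- The relators used. -/
noncomputable def R : List (List ℕ) := [[6,5],
  [8,7],
  [8,0,7,0],
  [8,1,7,1],
  [8,2,7,2],
  [8,3,7,3],
  [8,4,7,4],
  [8,5,7,6,6],
  [7,7,7],
  [0,0],
  [1,1],
  [2,2],
  [3,3],
  [4,4],
  [5,6],
  [7,8],
  [6,0,5,0],
  [6,1,5,1],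
  [6,2,5,2],
  [1,3,1,3],
  [5,3,5,3],
  [5,5,5,5,5,5,5],
  [0,4,0,4],
  [1,4,1,4],
  [2,4,2,4],
  [4,6,4,6,6,4,5,5,5],
  [2,3,2,3,2,3,2,3,0],
  [3,6,3,6],
  [3,4,3,4,3,4],
  [0,3,2,3,2,3,2,3,2],
  [1,2,1,2,1,2],
  [0,1,0,1,0,1],
  [1,2,3,4,1,2,3,4,1,2,3,4,1,2,3,4,1,2,3,4,1,2,3,4,1,2,3,4,1,2,3,4],
  [6,6,6,6,6,6,6],
  [6,6,6,4,5,5,4,5,4]]

noncomputable def invL : List ℕ := [0,1,2,3,4,6,5,8,7]

/-- How the relators used follow from the given ones. -/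
noncomputable def hints : List (ℕ × Bool × List ℕ) := [(29,false,[]),
  (29,false,[]),
  (23,false,[]),
  (24,false,[]),
  (25,false,[]),
  (26,false,[]),
  (27,false,[]),
  (28,false,[]),
  (22,false,[]),
  (29,false,[]),
  (29,false,[]),
  (29,false,[]),
  (29,false,[]),
  (29,false,[]),
  (29,false,[]),
  (29,false,[]),
  (17,false,[]),
  (18,false,[]),
  (19,false,[]),
  (10,false,[]),
  (20,false,[]),
  (16,false,[]),
  (8,false,[]),
  (11,false,[]),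
  (13,false,[]),
  (21,false,[]),
  (12,true,[]),
  (20,true,[]),
  (14,false,[]),
  (12,false,[]),
  (9,false,[]),
  (7,false,[]),
  (15,false,[]),
  (16,true,[]),
  (21,true,[])]

theorem l0all : ∀ a, a < 10 → l0f a = 0 :=
  allz_of_orR c0
theorem l0ru : allLt (rusChk R (nat_lit 9) l0R) 10 = true := by decide +kernel
theorem l0gm : Glue l0m := fun _ _ _ => chkM_append
theorem l0mm : l0m 3 0 = 0 := c1
theorem l0_ok : Idx R [0,1,2,3,4,5,6,7,8] [0,1,2,3,4,5,6] 3 :=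
  idx_of_chk (cm := 0) (q := 8) (d := 1) (s2 := 24) (full := 1) (f := l0f) (by decide +kernel) (by decide +kernel) (fun _ => rfl) l0all l0ru (by decide +kernel) (by decide +kernel) l0mm

theorem l1g (a : ℕ) : Glue (l1c a) := fun _ _ _ => chk_append
theorem l1f0 : l1f 0 = 0 :=
  show l1c 0 0 127 = 0 from c2
theorem l1f1 : l1f 1 = 0 :=
  show l1c 1 0 127 = 0 from c3
theorem l1f2 : l1f 2 = 0 :=
  show l1c 2 0 127 = 0 from (l1g 2).app (n := 127) (c4) c5 rfl rfl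
theorem l1f3 : l1f 3 = 0 :=
  show l1c 3 0 127 = 0 from (l1g 3).app (n := 127) (c6) c7 rfl rfl
theorem l1f4 : l1f 4 = 0 :=
  show l1c 4 0 127 = 0 from (l1g 4).app (n := 127) (c8) c9 rfl rfl
theorem l1f5 : l1f 5 = 0 :=
  show l1c 5 0 127 = 0 from c10
theorem l1f6 : l1f 6 = 0 :=
  show l1c 6 0 127 = 0 from c11
theorem l1f7 : l1f 7 = 0 :=
  show l1c 7 0 127 = 0 from c12
theorem l1f8 : l1f 8 = 0 :=
  show l1c 8 0 127 = 0 from c13
theorem l1f9 : l1f 9 = 0 :=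
  show l1c 9 0 127 = 0 from (l1g 9).app (n := 127) (c14) c15 rfl rfl
theorem l1all : ∀ a, a < 10 → l1f a = 0 :=
  allz_snoc (allz_snoc (allz_snoc (allz_snoc (allz_snoc (allz_snoc (allz_snoc (allz_snoc (allz_snoc (allz_snoc (allz_zero _) l1f0) l1f1) l1f2) l1f3) l1f4) l1f5) l1f6) l1f7) l1f8) l1f9
theorem l1ru : allLt (rusChk R (nat_lit 9) l1R) 10 = true := by decide +kernel
theorem l1gm : Glue l1m := fun _ _ _ => chkM_append
theorem l1mm : l1m 17472 9558 = 0 := c16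
theorem l1_ok : Idx R [0,1,2,3,4,5,6] [0,1,2,3,4] 17472 :=
  idx_of_chk (cm := 9558) (q := 8) (d := 7) (s2 := 36) (full := 127) (f := l1f) (by decide +kernel) (by decide +kernel) (fun _ => rfl) l1all l1ru (by decide +kernel) (by decide +kernel) l1mm

theorem l2all : ∀ a, a < 10 → l2f a = 0 :=
  allz_of_orR c17
theorem l2ru : allLt (rusChk R (nat_lit 9) l2R) 10 = true := by decide +kernel
theorem l2gm : Glue l2m := fun _ _ _ => chkM_append
theorem l2mm : l2m 126 7 = 0 := c18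
theorem l2_ok : Idx R [0,1,2,3,4] [0,2,3,4] 126 :=
  idx_of_chk (cm := 7) (q := 8) (d := 1) (s2 := 24) (full := 1) (f := l2f) (by decide +kernel) (by decide +kernel) (fun _ => rfl) l2all l2ru (by decide +kernel) (by decide +kernel) l2mm

theorem l3all : ∀ a, a < 10 → l3f a = 0 :=
  allz_of_orR c19
theorem l3ru : allLt (rusChk R (nat_lit 9) l3R) 10 = true := by decide +kernel
theorem l3gm : Glue l3m := fun _ _ _ => chkM_append
theorem l3mm : l3m 96 0 = 0 := c20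
theorem l3_ok : Idx R [0,2,3,4] [] 96 :=
  idx_of_chk (cm := 0) (q := 8) (d := 1) (s2 := 24) (full := 1) (f := l3f) (by decide +kernel) (by decide +kernel) (fun _ => rfl) l3all l3ru (by decide +kernel) (by decide +kernel) l3mm

theorem bounds : Bounds R [0,1,2,3,4,5,6,7,8] 634023936 := fun _ _ y hR =>
  (show 3 * (17472 * (126 * (96 * (1)))) = 634023936 by decide +kernel) ▸ l0_ok.bound hR (l1_ok.bound hR (l2_ok.bound hR (l3_ok.bound hR (bound_nil y))))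

/-- The given relators. -/
noncomputable def R0 : List (List ℕ) := [[0,0],
  [1,1],
  [2,2],
  [3,3],
  [4,4],
  [5,6],
  [7,8],
  [0,1,0,1,0,1],
  [0,4,0,4],
  [1,2,1,2,1,2],
  [1,3,1,3],
  [1,4,1,4],
  [0,3,2,3,2,3,2,3,2],
  [2,4,2,4],
  [3,4,3,4,3,4],
  [1,2,3,4,1,2,3,4,1,2,3,4,1,2,3,4,1,2,3,4,1,2,3,4,1,2,3,4,1,2,3,4],
  [5,5,5,5,5,5,5],
  [6,0,5,0],
  [6,1,5,1],
  [6,2,5,2],
  [5,3,5,3],
  [4,6,4,5,6,6,6,4,5,5,5],
  [7,7,7],
  [8,0,7,0],
  [8,1,7,1],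
  [8,2,7,2],
  [8,3,7,3],
  [8,4,7,4],
  [8,5,7,6,6]]

theorem bounds0 : Bounds R0 [0,1,2,3,4,5,6,7,8] 634023936 :=
  bounds_of_ders (n := 9) (inv := invOf invL) (hs := hints) bounds (by decide +kernel) (invOf_ge' rfl)
    (by decide +kernel) (by decide +kernel) (by decide +kernel)

end Cfsg.Agent.TCX.TD4
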