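import Cfsg.Agent.Lib.TCX.TD4.Defs

set_option autoImplicit false
set_option maxRecDepth 100000
set_option Elab.async false

namespace Cfsg.Agent.TCX.TD4

theorem c0 : orR l0f 0 10 = 0 := by decide +kernel
theorem c1 : l0m 3 0 = 0 := by decide +kernel
theorem c2 : l1c 0 0 127 = 0 := by decide +kernel
theorem c3 : l1c 1 0 127 = 0 := by decide +kernel
theorem c4 : l1c 2 0 111 = 0 := by decide +kernel
theorem c5 : l1c 2 111 16 = 0 := by decide +kernel
theorem c6 : l1c 3 0 100 = 0 := by decide +kernel
theorem c7 : l1c 3 100 27 = 0 := by decide +kernel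
theorem c8 : l1c 4 0 103 = 0 := by decide +kernel
theorem c9 : l1c 4 103 24 = 0 := by decide +kernel
theorem c10 : l1c 5 0 127 = 0 := by decide +kernel
theorem c11 : l1c 6 0 127 = 0 := by decide +kernel
theorem c12 : l1c 7 0 127 = 0 := by decide +kernel
theorem c13 : l1c 8 0 127 = 0 := by decide +kernel
theorem c14 : l1c 9 0 100 = 0 := by decide +kernel
theorem c15 : l1c 9 100 27 = 0 := by decide +kernel
theorem c16 : l1m 17472 9558 = 0 := by decide +kernel
theorem c17 : orR l2f 0 10 = 0 := by decide +kernel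
theorem c18 : l2m 126 7 = 0 := by decide +kernel
theorem c19 : orR l3f 0 10 = 0 := by decide +kernel
theorem c20 : l3m 96 0 = 0 := by decide +kernel

end Cfsg.Agent.TCX.TD4
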