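import Cfsg.Agent.Lib.TCX.TD4.D0

set_option autoImplicit false
set_option maxRecDepth 100000
set_option Elab.async false

namespace Cfsg.Agent.TCX.TD4

noncomputable def l0r0 : Bt Ru := (.leaf ⟨[7,0,8],2,1⟩)
noncomputable def l0r1 : Bt Ru := (.leaf ⟨[7,1,8],3,1⟩)
noncomputable def l0r2 : Bt Ru := (.leaf ⟨[7,2,8],4,1⟩)
noncomputable def l0r3 : Bt Ru := (.leaf ⟨[7,3,8],5,1⟩)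
noncomputable def l0r4 : Bt Ru := (.leaf ⟨[7,4,8],6,1⟩)
noncomputable def l0r5 : Bt Ru := (.leaf ⟨[7,6,6,8],7,1⟩)
noncomputable def l0r6 : Bt Ru := (.leaf ⟨[5],0,0⟩)
noncomputable def l0r7 : Bt Ru := (.leaf ⟨[7,7],8,0⟩)
noncomputable def l0r8 : Bt Ru := (.leaf ⟨[7],1,0⟩)
noncomputable def l0r9 : Bt Ru := (.leaf ⟨[0,0],9,0⟩)
noncomputable def l1t0 : Bt Nat := (.node (.node l1t0_0 l1t0_2) (.node l1t0_1 l1t0_3))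
noncomputable def l1t1 : Bt Nat := (.node (.node l1t1_0 l1t1_2) (.node l1t1_1 l1t1_3))
noncomputable def l1t2 : Bt Nat := (.node (.node l1t2_0 l1t2_2) (.node l1t2_1 l1t2_3))
noncomputable def l1t3 : Bt Nat := (.node (.node l1t3_0 l1t3_2) (.node l1t3_1 l1t3_3))
noncomputable def l1t4 : Bt Nat := (.node (.node l1t4_0 l1t4_2) (.node l1t4_1 l1t4_3))
noncomputable def l1t5 : Bt Nat := (.node (.node l1t5_0 l1t5_2) (.node l1t5_1 l1t5_3))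
noncomputable def l1t6 : Bt Nat := (.node (.node l1t6_0 l1t6_2) (.node l1t6_1 l1t6_3))
noncomputable def l1t9 : Bt Nat := (.node (.node l1t9_0 l1t9_2) (.node l1t9_1 l1t9_3))
noncomputable def l1t10 : Bt Nat := (.node (.node l1t10_0 l1t10_2) (.node l1t10_1 l1t10_3))
noncomputable def l1r0 : Bt Ru := (.node (.node (.node (.leaf ⟨[5,0,6],16,1⟩) (.leaf ⟨[3,2,3,2,3,2,3,2],29,0⟩)) (.node (.leaf ⟨[4,0,4],22,0⟩) (.leaf ⟨[1,0,1,0,1],31,0⟩))) (.node (.node (.leaf ⟨[6,0,5],16,3⟩) (.leaf ⟨[0],9,0⟩)) (.node (.leaf ⟨[2,3,2,3,2,3,2,3],26,8⟩) (.leaf ⟨[0],9,0⟩))))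
noncomputable def l1r1 : Bt Ru := (.node (.node (.node (.leaf ⟨[5,1,6],17,1⟩) (.leaf ⟨[1],10,0⟩)) (.node (.leaf ⟨[4,1,4],23,0⟩) (.leaf ⟨[0,1,0,1,0],31,5⟩))) (.node (.node (.leaf ⟨[3,1,3],19,0⟩) (.leaf ⟨[2,1,2,1,2],30,0⟩)) (.node (.leaf ⟨[6,1,5],17,3⟩) (.leaf ⟨[2,3,4,1,2,3,4,1,2,3,4,1,2,3,4,1,2,3,4,1,2,3,4,1,2,3,4,1,2,3,4],32,0⟩))))
noncomputable def l1r2 : Bt Ru := (.node (.node (.node (.node (.leaf ⟨[5,2,6],18,1⟩) (.leaf ⟨[3,2,3,2,3,2,0,3],29,2⟩)) (.node (.leaf ⟨[1,2,1,2,1],30,5⟩) (.leaf ⟨[3,2,3,0,2,3,2,3],26,4⟩))) (.node (.node (.leaf ⟨[4,2,4],24,0⟩) (.leaf ⟨[3,2,3,2,3,2,3,0],26,0⟩)) (.node (.leaf ⟨[3,2,0,3,2,3,2,3],29,6⟩) (.leaf ⟨[2],11,0⟩)))) (.node (.node (.node (.leaf ⟨[6,2,5],18,3⟩) (.leaf ⟨[0,3,2,3,2,3,2,3],29,8⟩)) (.node (.leaf ⟨[3,2,3,2,0,3,2,3],29,4⟩)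 (.leaf ⟨[2],11,0⟩))) (.node (.node (.leaf ⟨[2],11,0⟩) (.leaf ⟨[3,2,3,2,3,0,2,3],26,2⟩)) (.node (.leaf ⟨[3,4,1,2,3,4,1,2,3,4,1,2,3,4,1,2,3,4,1,2,3,4,1,2,3,4,1,2,3,4,1],32,29⟩) (.leaf ⟨[2],11,0⟩)))))
noncomputable def l1r3 : Bt Ru := (.node (.node (.node (.node (.leaf ⟨[3],12,0⟩) (.leaf ⟨[0,2,3,2,3,2,3,2],26,7⟩)) (.node (.leaf ⟨[1,3,1],19,3⟩) (.leaf ⟨[2,3,2,3,2,3,0,2],26,1⟩))) (.node (.node (.leaf ⟨[4,3,4,3,4],28,0⟩) (.leaf ⟨[2,0,3,2,3,2,3,2],29,7⟩)) (.node (.leaf ⟨[2,3,2,3,2,3,2,0],29,1⟩) (.leaf ⟨[3],12,0⟩)))) (.node (.node (.node (.leaf ⟨[5,3,5],20,3⟩) (.leaf ⟨[2,3,2,0,3,2,3,2],29,5⟩)) (.node (.leaf ⟨[6,3,6],27,0⟩) (.leaf ⟨[3],12,0⟩))) (.node (.node (.leaf ⟨[4,1,2,3,4,1,2,3,4,1,2,3,4,1,2,3,4,1,2,3,4,1,2,3,4,1,2,3,4,1,2],32,30⟩) (.leaf ⟨[2,3,0,2,3,2,3,2],26,5⟩))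 (.node (.leaf ⟨[2,3,2,3,2,0,3,2],29,3⟩) (.leaf ⟨[3],12,0⟩)))))
noncomputable def l1r4 : Bt Ru := (.node (.node (.node (.node (.leaf ⟨[4],13,0⟩) (.leaf ⟨[1,2,3,4,1,2,3,4,1,2,3,4,1,2,3,4,1,2,3,4,1,2,3,4,1,2,3,4,1,2,3],32,31⟩)) (.node (.leaf ⟨[1,4,1],23,3⟩) (.leaf ⟨[4],13,0⟩))) (.node (.node (.leaf ⟨[3,4,3,4,3],28,5⟩) (.leaf ⟨[5,4,6,6,6,4,5,5],34,6⟩)) (.node (.leaf ⟨[5,5,5,4,6,4,6,6],25,5⟩) (.leaf ⟨[4],13,0⟩)))) (.node (.node (.node (.leaf ⟨[6,6,4,5,5,5,4,6],25,2⟩) (.leaf ⟨[5,5,4,5,4,6,6,6],34,3⟩)) (.node (.leaf ⟨[6,4,6,6,4,5,5,5],25,0⟩) (.leaf ⟨[4],13,0⟩))) (.node (.node (.leaf ⟨[2,4,2],24,3⟩) (.leaf ⟨[6,6,6,4,5,5,4,5],34,8⟩)) (.node (.leaf ⟨[0,4,0],22,3⟩) (.leaf ⟨[4],13,0⟩)))))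
noncomputable def l1r5 : Bt Ru := (.node (.node (.node (.node (.leaf ⟨[3,5,3],20,0⟩) (.leaf ⟨[4,6,6,6,4,5,5,4],34,7⟩)) (.node (.leaf ⟨[1,6,1],17,2⟩) (.leaf ⟨[6],14,0⟩))) (.node (.node (.leaf ⟨[6],14,0⟩) (.leaf ⟨[5,4,6,4,6,6,4,5],25,7⟩)) (.node (.leaf ⟨[4,6,4,6,6,4,5,5],25,8⟩) (.leaf ⟨[6],14,0⟩)))) (.node (.node (.node (.leaf ⟨[5,5,5,5,5,5],21,0⟩) (.leaf ⟨[4,5,4,6,6,6,4,5],34,5⟩)) (.node (.leaf ⟨[2,6,2],18,2⟩) (.leaf ⟨[6],14,0⟩))) (.node (.node (.leaf ⟨[5,5,4,6,4,6,6,4],25,6⟩) (.leaf ⟨[5,4,5,4,6,6,6,4],34,4⟩)) (.node (.leaf ⟨[0,6,0],16,2⟩) (.leaf ⟨[6],14,0⟩)))))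
noncomputable def l1r6 : Bt Ru := (.node (.node (.node (.node (.leaf ⟨[5],0,0⟩) (.leaf ⟨[4,5,5,5,4,6,4,6],25,4⟩)) (.node (.leaf ⟨[6,6,6,6,6,6],33,0⟩) (.leaf ⟨[5],0,0⟩))) (.node (.node (.leaf ⟨[4,6,6,4,5,5,5,4],25,1⟩) (.leaf ⟨[6,4,5,5,4,5,4,6],34,1⟩)) (.node (.leaf ⟨[0,5,0],16,0⟩) (.leaf ⟨[5],0,0⟩)))) (.node (.node (.node (.leaf ⟨[3,6,3],27,3⟩) (.leaf ⟨[6,6,4,5,5,4,5,4],34,0⟩)) (.node (.leaf ⟨[1,5,1],17,0⟩) (.leaf ⟨[5],0,0⟩))) (.node (.node (.leaf ⟨[2,5,2],18,0⟩) (.leaf ⟨[4,5,5,4,5,4,6,6],34,2⟩)) (.node (.leaf ⟨[6,4,5,5,5,4,6,4],25,3⟩) (.leaf ⟨[5],0,0⟩)))))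
noncomputable def l1r7 : Bt Ru := (.leaf ⟨[8],15,0⟩)
noncomputable def l1r8 : Bt Ru := (.leaf ⟨[7],1,0⟩)
noncomputable def l1r9 : Bt Ru := (.node (.node (.node (.node (.node (.node (.leaf ⟨[1,2,1,2,1,2],30,0⟩) (.leaf ⟨[6,1,5,1],17,0⟩)) (.node (.leaf ⟨[2,0,3,2,3,2,3,2,3],29,8⟩) (.leaf ⟨[5,0,6,0],16,2⟩))) (.node (.node (.leaf ⟨[3,4,3,4,3,4],28,0⟩) (.leaf ⟨[3,2,3,2,3,0,2,3,2],26,3⟩)) (.node (.leaf ⟨[6,2,5,2],18,0⟩) (.leaf ⟨[5,5,5,4,6,4,6,6,4],25,6⟩)))) (.node (.node (.node (.leaf ⟨[1,5,1,6],17,1⟩) (.leaf ⟨[0,5,0,6],16,1⟩)) (.node (.leaf ⟨[1,3,1,3],19,0⟩) (.leaf ⟨[6,0,5,0],16,0⟩))) (.node (.node (.leaf ⟨[5,1,6,1],17,2⟩) (.leaf ⟨[0,3,2,3,2,3,2,3,2],29,0⟩)) (.node (.leaf ⟨[3,0,2,3,2,3,2,3,2],26,7⟩) (.leaf ⟨[0,0],9,0⟩))))) (.node (.node (.node (.node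 (.leaf ⟨[5,4,6,4,6,6,4,5,5],25,8⟩) (.leaf ⟨[2,3,2,3,2,3,2,0,3],29,2⟩)) (.node (.leaf ⟨[4,3,4,3,4,3],28,5⟩) (.leaf ⟨[2,3,2,3,2,0,3,2,3],29,4⟩))) (.node (.node (.leaf ⟨[3,5,3,5],20,3⟩) (.leaf ⟨[3,2,3,0,2,3,2,3,2],26,5⟩)) (.node (.leaf ⟨[3,6,3,6],27,0⟩) (.leaf ⟨[1,0,1,0,1,0],31,5⟩)))) (.node (.node (.node (.leaf ⟨[6,6,6,4,5,5,4,5,4],34,0⟩) (.leaf ⟨[4,6,6,4,5,5,5,4,6],25,2⟩)) (.node (.leaf ⟨[4,0,4,0],22,3⟩) (.leaf ⟨[4,6,6,6,4,5,5,4,5],34,8⟩))) (.node (.node (.leaf ⟨[4,2,4,2],24,3⟩) (.leaf ⟨[5,4,6,6,6,4,5,5,4],34,7⟩)) (.node (.leaf ⟨[3,2,3,2,0,3,2,3,2],29,5⟩) (.leaf ⟨[0,0],9,0⟩)))))) (.node (.node (.node (.node (.node (.leaf ⟨[4,1,4,1],23,3⟩) (.leaf ⟨[0,2,3,2,3,2,3,2,3],26,8⟩)) (.node (.leaf ⟨[3,2,3,2,3,2,0,3,2],29,3⟩) (.leaf ⟨[2,3,2,3,2,3,0,2,3],26,2⟩)))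 (.node (.node (.leaf ⟨[2,1,2,1,2,1],30,5⟩) (.leaf ⟨[4,6,4,6,6,4,5,5,5],25,0⟩)) (.node (.leaf ⟨[2,3,2,0,3,2,3,2,3],29,6⟩) (.leaf ⟨[0,1,0,1,0,1],31,0⟩)))) (.node (.node (.node (.leaf ⟨[5,3,5,3],20,0⟩) (.leaf ⟨[1,6,1,5],17,3⟩)) (.node (.leaf ⟨[3,2,0,3,2,3,2,3,2],29,7⟩) (.leaf ⟨[4,5,5,5,4,6,4,6,6],25,5⟩))) (.node (.node (.leaf ⟨[0,4,0,4],22,0⟩) (.leaf ⟨[6,6,4,5,5,5,4,6,4],25,3⟩)) (.node (.leaf ⟨[2,3,2,3,0,2,3,2,3],26,4⟩) (.leaf ⟨[0,0],9,0⟩))))) (.node (.node (.node (.node (.leaf ⟨[1,4,1,4],23,0⟩) (.leaf ⟨[0,6,0,5],16,3⟩)) (.node (.leaf ⟨[2,3,2,3,2,3,2,3,0],26,0⟩) (.leaf ⟨[6,4,6,6,4,5,5,5,4],25,1⟩))) (.node (.node (.leaf ⟨[2,4,2,4],24,0⟩) (.leaf ⟨[3,2,3,2,3,2,3,2,0],29,1⟩)) (.node (.leaf ⟨[2,6,2,5],18,3⟩) (.leaf ⟨[0,0],9,0⟩)))) (.node (.node (.node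 (.leaf ⟨[5,2,6,2],18,2⟩) (.leaf ⟨[3,2,3,2,3,2,3,0,2],26,1⟩)) (.node (.leaf ⟨[6,3,6,3],27,3⟩) (.leaf ⟨[4,5,5,4,5,4,6,6,6],34,3⟩))) (.node (.node (.leaf ⟨[3,1,3,1],19,3⟩) (.leaf ⟨[2,5,2,6],18,1⟩)) (.node (.leaf ⟨[2,3,0,2,3,2,3,2,3],26,6⟩) (.leaf ⟨[0,0],9,0⟩)))))))
noncomputable def l2r0 : Bt Ru := (.node (.node (.node (.leaf ⟨[0],9,0⟩) (.leaf ⟨[3,2,3,2,3,2,3,2],29,0⟩)) (.node (.leaf ⟨[2,3,2,3,2,3,2,3],26,8⟩) (.leaf ⟨[0],9,0⟩))) (.node (.node (.leaf ⟨[4,0,4],22,0⟩) (.leaf ⟨[0],9,0⟩)) (.node (.leaf ⟨[1,0,1,0,1],31,0⟩) (.leaf ⟨[0],9,0⟩))))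
noncomputable def l2r1 : Bt Ru := (.node (.node (.node (.leaf ⟨[1],10,0⟩) (.leaf ⟨[4,1,4],23,0⟩)) (.node (.leaf ⟨[2,1,2,1,2],30,0⟩) (.leaf ⟨[1],10,0⟩))) (.node (.node (.leaf ⟨[0,1,0,1,0],31,5⟩) (.leaf ⟨[1],10,0⟩)) (.node (.leaf ⟨[3,1,3],19,0⟩) (.leaf ⟨[1],10,0⟩))))
noncomputable def l2r2 : Bt Ru := (.node (.node (.node (.leaf ⟨[0,3,2,3,2,3,2,3],29,8⟩) (.leaf ⟨[3,2,3,0,2,3,2,3],26,4⟩)) (.node (.leaf ⟨[1,2,1,2,1],30,5⟩) (.leaf ⟨[3,2,3,2,0,3,2,3],29,4⟩))) (.node (.node (.leaf ⟨[2],11,0⟩) (.leaf ⟨[3,2,3,2,3,2,3,0],26,0⟩)) (.node (.leaf ⟨[4,2,4],24,0⟩) (.leaf ⟨[3,2,0,3,2,3,2,3],29,6⟩))))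
noncomputable def l2r3 : Bt Ru := (.node (.node (.node (.leaf ⟨[1,3,1],19,3⟩) (.leaf ⟨[0,2,3,2,3,2,3,2],26,7⟩)) (.node (.leaf ⟨[3],12,0⟩) (.leaf ⟨[2,3,2,0,3,2,3,2],29,5⟩))) (.node (.node (.leaf ⟨[2,0,3,2,3,2,3,2],29,7⟩) (.leaf ⟨[2,3,2,3,2,3,2,0],29,1⟩)) (.node (.leaf ⟨[4,3,4,3,4],28,0⟩) (.leaf ⟨[3],12,0⟩))))
noncomputable def l2r4 : Bt Ru := (.node (.node (.node (.leaf ⟨[1,4,1],23,3⟩) (.leaf ⟨[3,4,3,4,3],28,5⟩)) (.node (.leaf ⟨[2,4,2],24,3⟩) (.leaf ⟨[4],13,0⟩))) (.node (.node (.leaf ⟨[0,4,0],22,3⟩) (.leaf ⟨[1,2,3,4,1,2,3,4,1,2,3,4,1,2,3,4,1,2,3,4,1,2,3,4,1,2,3,4,1,2,3],32,31⟩)) (.node (.leaf ⟨[4],13,0⟩) (.leaf ⟨[4],13,0⟩))))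
noncomputable def l2r5 : Bt Ru := (.leaf ⟨[6],14,0⟩)
noncomputable def l2r6 : Bt Ru := (.leaf ⟨[5],0,0⟩)
noncomputable def l2r7 : Bt Ru := (.leaf ⟨[8],15,0⟩)
noncomputable def l2r8 : Bt Ru := (.leaf ⟨[7],1,0⟩)
noncomputable def l2r9 : Bt Ru := (.node (.node (.leaf ⟨[4,1,4,1],23,3⟩) (.leaf ⟨[3,2,3,2,3,2,3,2,0],29,1⟩)) (.node (.leaf ⟨[1,0,1,0,1,0],31,5⟩) (.leaf ⟨[0,0],9,0⟩)))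
noncomputable def l3r0 : Bt Ru := (.node (.node (.leaf ⟨[0],9,0⟩) (.leaf ⟨[2,3,2,3,2,3,2,3],26,8⟩)) (.node (.leaf ⟨[4,0,4],22,0⟩) (.leaf ⟨[3,2,3,2,3,2,3,2],29,0⟩)))
noncomputable def l3r1 : Bt Ru := (.leaf ⟨[1],10,0⟩)
noncomputable def l3r2 : Bt Ru := (.node (.node (.node (.leaf ⟨[2],11,0⟩) (.leaf ⟨[3,2,0,3,2,3,2,3],29,6⟩)) (.node (.leaf ⟨[3,2,3,2,3,2,0,3],29,2⟩) (.leaf ⟨[2],11,0⟩))) (.node (.node (.leaf ⟨[4,2,4],24,0⟩) (.leaf ⟨[2],11,0⟩)) (.node (.leaf ⟨[3,2,3,2,0,3,2,3],29,4⟩) (.leaf ⟨[2],11,0⟩))))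
noncomputable def l3r3 : Bt Ru := (.node (.node (.leaf ⟨[3],12,0⟩) (.leaf ⟨[2,3,2,3,2,3,2,0],29,1⟩)) (.node (.leaf ⟨[4,3,4,3,4],28,0⟩) (.leaf ⟨[3],12,0⟩)))
noncomputable def l3r4 : Bt Ru := (.node (.node (.leaf ⟨[4],13,0⟩) (.leaf ⟨[3,4,3,4,3],28,5⟩)) (.node (.leaf ⟨[2,4,2],24,3⟩) (.leaf ⟨[0,4,0],22,3⟩)))
noncomputable def l3r5 : Bt Ru := (.leaf ⟨[6],14,0⟩)
noncomputable def l3r6 : Bt Ru := (.leaf ⟨[5],0,0⟩)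
noncomputable def l3r7 : Bt Ru := (.leaf ⟨[8],15,0⟩)
noncomputable def l3r8 : Bt Ru := (.leaf ⟨[7],1,0⟩)
noncomputable def l3r9 : Bt Ru := (.leaf ⟨[0,0],9,0⟩)
noncomputable def l0T : List (Bt Nat) := [l0t0, l0t1, l0t2, l0t3, l0t4, l0t5, l0t6, l0t7, l0t8, (.leaf (nat_lit 0)), l0t10]
noncomputable def l0R : List (Bt Ru) := [l0r0, l0r1, l0r2, l0r3, l0r4, l0r5, l0r6, l0r7, l0r8, l0r9]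
noncomputable def l0c (a lo cnt : Nat) : Nat := chk (gT l0T (nat_lit 14)) (rT l0R) (nat_lit 14) (nat_lit 0x7fc0) (nat_lit 0x4000) (nat_lit 0x3fc0) (nat_lit 9) (nat_lit 15) (nat_lit 511) (nat_lit 0x8000000000ffffff) (nat_lit 3) (nat_lit 4) (nat_lit 127) (nat_lit 0x4080) a (nfOf [0,1,2,3,4,5,6,7,8] 3 a) lo cnt
noncomputable def l0f (a : Nat) : Nat := l0c a 0 1
noncomputable def l0m (lo cnt : Nat) : Nat := chkM (gT l0T (nat_lit 14)) (nat_lit 14) (nat_lit 0x7fc0) (nat_lit 0x4000) (nat_lit 0x3fc0) (nat_lit 9) lo cnt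
noncomputable def l1T : List (Bt Nat) := [l1t0, l1t1, l1t2, l1t3, l1t4, l1t5, l1t6, (.leaf (nat_lit 0)), (.leaf (nat_lit 0)), l1t9, l1t10]
noncomputable def l1R : List (Bt Ru) := [l1r0, l1r1, l1r2, l1r3, l1r4, l1r5, l1r6, l1r7, l1r8, l1r9]
noncomputable def l1c (a lo cnt : Nat) : Nat := chk (gT l1T (nat_lit 14)) (rT l1R) (nat_lit 14) (nat_lit 0x1fffc0) (nat_lit 0x1fc000) (nat_lit 0x3fc0) (nat_lit 9) (nat_lit 21) (nat_lit 0x7fff) (nat_lit 0x8000000fffffffff) (nat_lit 61) (nat_lit 120) (nat_lit 31) (nat_lit 0x1aa540) a (nfOf [0,1,2,3,4,5,6] 17472 a) lo cnt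
noncomputable def l1f (a : Nat) : Nat := l1c a 0 127
noncomputable def l1m (lo cnt : Nat) : Nat := chkM (gT l1T (nat_lit 14)) (nat_lit 14) (nat_lit 0x1fffc0) (nat_lit 0x1fc000) (nat_lit 0x3fc0) (nat_lit 9) lo cnt
noncomputable def l2T : List (Bt Nat) := [l2t0, l2t1, l2t2, l2t3, l2t4, (.leaf (nat_lit 0)), (.leaf (nat_lit 0)), (.leaf (nat_lit 0)), (.leaf (nat_lit 0)), l2t9, l2t10]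
noncomputable def l2R : List (Bt Ru) := [l2r0, l2r1, l2r2, l2r3, l2r4, l2r5, l2r6, l2r7, l2r8, l2r9]
noncomputable def l2c (a lo cnt : Nat) : Nat := chk (gT l2T (nat_lit 14)) (rT l2R) (nat_lit 14) (nat_lit 0x7fc0) (nat_lit 0x4000) (nat_lit 0x3fc0) (nat_lit 9) (nat_lit 15) (nat_lit 511) (nat_lit 0x8000000000ffffff) (nat_lit 10) (nat_lit 18) (nat_lit 29) (nat_lit 0x6100) a (nfOf [0,1,2,3,4] 126 a) lo cnt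
noncomputable def l2f (a : Nat) : Nat := l2c a 0 1
noncomputable def l2m (lo cnt : Nat) : Nat := chkM (gT l2T (nat_lit 14)) (nat_lit 14) (nat_lit 0x7fc0) (nat_lit 0x4000) (nat_lit 0x3fc0) (nat_lit 9) lo cnt
noncomputable def l3T : List (Bt Nat) := [l3t0, (.leaf (nat_lit 0)), l3t2, l3t3, l3t4, (.leaf (nat_lit 0)), (.leaf (nat_lit 0)), (.leaf (nat_lit 0)), (.leaf (nat_lit 0)), (.leaf (nat_lit 0)), l3t10]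
noncomputable def l3R : List (Bt Ru) := [l3r0, l3r1, l3r2, l3r3, l3r4, l3r5, l3r6, l3r7, l3r8, l3r9]
noncomputable def l3c (a lo cnt : Nat) : Nat := chk (gT l3T (nat_lit 14)) (rT l3R) (nat_lit 14) (nat_lit 0x7fc0) (nat_lit 0x4000) (nat_lit 0x3fc0) (nat_lit 9) (nat_lit 15) (nat_lit 511) (nat_lit 0x8000000000ffffff) (nat_lit 7) (nat_lit 12) (nat_lit 0) (nat_lit 0x57c0) a (nfOf [0,2,3,4] 96 a) lo cnt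
noncomputable def l3f (a : Nat) : Nat := l3c a 0 1
noncomputable def l3m (lo cnt : Nat) : Nat := chkM (gT l3T (nat_lit 14)) (nat_lit 14) (nat_lit 0x7fc0) (nat_lit 0x4000) (nat_lit 0x3fc0) (nat_lit 9) lo cnt

end Cfsg.Agent.TCX.TD4
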